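import Groth.Agent.Lib.KLDim13.Dim
import Groth.Agent.Lib.RR22.Classify
import Groth.Agent.Lib.Snapper.IntNum
import Mathlib.Algebra.Group.ForwardDiff

/-!
# `g! χ(L) = (L^g)` on an abelian variety
-/

universe u

open CategoryTheory Limits MonoidalCategory CartesianMonoidalCategory AlgebraicGeometry TopologicalSpace Opposite
open scoped MonObj GrpObj

set_option autoImplicit false
set_option linter.style.haveILetI false
set_option linter.unusedSectionVars false
set_option maxHeartbeats 1000000
set_option backward.isDefEq.respectTransparency false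
set_option backward.isDefEq.respectTransparency.types false

noncomputable section

namespace Groth.Agent.SelfInt13

open Index22 Hilb13

noncomputable local instance instLawSelfInt13 (Y : Scheme.{u}) : PicGrp.Law Y := M2.law Y

variable {k : Type u} [Field k] {A : Over (Spec (CommRingCat.of k))} [GrpObj A] [IsProper A.hom]
  [GeometricallyIntegral A.hom]

theorem chi_inverse_of_isAlgClosed [IsAlgClosed k] {g : ℕ} (hg : topologicalKrullDim A.left = g)
    {L M : A.left.Modules} (hL : PicF.IsInvertible L) (hM : PicF.IsInvertible M)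
    (h : PicGrp.cls M hM = (PicGrp.cls L hL)⁻¹) : chi M = (-1) ^ g * chi L := by
  by_cases hnd : Nd (PicGrp.cls L hL)
  · exact RR22.euler_inverse hL hnd hM h hg
  · rw [show chi L = 0 from MumVan22.euler_eq_zero_of_infinite hL hnd, mul_zero]
    refine MumVan22.euler_eq_zero_of_infinite hM fun hndM => hnd ?_
    have := Index22.nd_inv (c := PicGrp.cls M hM) hndM
    rwa [h, inv_inv] at this

/-- `χ(L⁻¹) = (-1)^g χ(L)` over any field. -/
theorem chi_inverse {g : ℕ} (hg : topologicalKrullDim A.left = g) {L M : A.left.Modules}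
    (hL : PicF.IsInvertible L) (hM : PicF.IsInvertible M)
    (h : PicGrp.cls M hM = (PicGrp.cls L hL)⁻¹) : chi M = (-1) ^ g * chi L := by
  rw [chi, chi, ← RR22.euler_bar hM, ← RR22.euler_bar hL]
  exact chi_inverse_of_isAlgClosed ((topologicalKrullDim_bar (A := A)).trans hg)
    (PicLoc.isInvertible_pullback (prj A) hL) (PicLoc.isInvertible_pullback (prj A) hM)
    (by rw [← PicGrp.pullHom_cls _ (M2.pullMul _) _ hM, ← PicGrp.pullHom_cls _ (M2.pullMul _) _ hL, h, map_inv])

theorem chi_natPow {g : ℕ} (hg : topologicalKrullDim A.left = g) {M : A.left.Modules} (hM : PicF.IsInvertible M)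
    (j : ℕ) : chi (CohB1.tensorPow M j) = (j : ℤ) ^ g * chi M := by
  obtain ⟨p, hp⟩ := KLDim13.exists_hilbert (PicLoc.isInvertible_structureModule A.left) hM
  have hpow : ∀ n : ℕ, chi (CohB1.tensorMod (Coh.structureModule A.left) (CohB1.tensorPow M n)) =
      chi (CohB1.tensorPow M n) := fun n => by
    letI : A.left.Over (Spec (CommRingCat.of k)) := ⟨A.hom⟩
    exact CurveCoh17.euler_iso (M2.tensorLUnit _)
  have hpeq : p = Polynomial.C (chi M : ℚ) * Polynomial.X ^ g := RR22.poly_ext 1 fun n hn => by
    rw [hp, hpow, chi_pow hM hg (show 0 < n by omega), Polynomial.eval_mul, Polynomial.eval_C, Polynomial.eval_pow,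
      Polynomial.eval_X]
    push_cast
    ring
  have := hp j
  rw [hpow, hpeq, Polynomial.eval_mul, Polynomial.eval_C, Polynomial.eval_pow, Polynomial.eval_X] at this
  have h' : ((chi (CohB1.tensorPow M j) : ℤ) : ℚ) = (((j : ℤ) ^ g * chi M : ℤ) : ℚ) := by
    push_cast
    linarith
  exact_mod_cast h'

/-- The alternating sum of the `g`-th powers. -/
theorem sum_choose_pow (g : ℕ) :
    ∑ I : Finset (Fin g), (-1 : ℤ) ^ I.card * (I.card : ℤ) ^ g = (-1) ^ g * (g.factorial : ℤ) := by
  rw [← Finset.powerset_univ, Finset.sum_powerset_apply_card (fun j => (-1 : ℤ) ^ j * (j : ℤ) ^ g),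
    Finset.card_univ, Fintype.card_fin]
  have h := fwdDiff_iter_eq_sum_shift (h := (1 : ℤ)) (fun x : ℤ => x ^ g) g 0
  rw [fwdDiff_iter_eq_factorial] at h
  have h' : (g.factorial : ℤ) = ∑ j ∈ Finset.range (g + 1), ((-1 : ℤ) ^ (g - j) * g.choose j) * (j : ℤ) ^ g := by
    simpa using h
  rw [h', Finset.mul_sum]
  refine Finset.sum_congr rfl fun j hj => ?_
  have hjg : j ≤ g := Nat.le_of_lt_succ (Finset.mem_range.1 hj)
  have he : (-1 : ℤ) ^ g * (-1) ^ (g - j) = (-1) ^ j := by
    rw [← pow_add, show g + (g - j) = 2 * (g - j) + j by omega, pow_add, pow_mul, neg_one_sq, one_pow, one_mul]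
  rw [← he, nsmul_eq_mul]
  ring

/-- **Riemann–Roch by self-intersection.** -/
theorem factorial_mul_chi {g : ℕ} (hg : topologicalKrullDim A.left = g) {L M : A.left.Modules}
    (hL : PicF.IsInvertible L) (e : Nonempty (CohB1.tensorMod L M ≅ Coh.structureModule A.left)) :
    ((g.factorial : ℕ) : ℤ) * chi L =
      @FGA.intNum k _ A.left ⟨A.hom⟩ g g (fun _ : Fin g => M) (Coh.structureModule A.left) := by
  letI : A.left.Over (Spec (CommRingCat.of k)) := ⟨A.hom⟩
  haveI : IsProper (A.left ↘ Spec (CommRingCat.of k)) := inferInstanceAs (IsProper A.hom)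
  haveI : IsIntegral A.left := GeometricallyIntegral.isIntegral_of_subsingleton A.hom
  have hM : PicF.IsInvertible M := M2.isInvertible_of_tensor_iso hL (M2.tensorComm _ _ ≪≫ e.some)
  have hc : PicGrp.cls M hM = (PicGrp.cls L hL)⁻¹ := Index22.cls_inverse hL hM e
  have key : ∀ l : List (Fin g), ∃ hl : PicF.IsInvertible (FGA.tensorList (l.map fun _ => M)),
      PicGrp.cls _ hl = PicGrp.cls M hM ^ l.length := by
    intro l
    induction l with
    | nil => exact ⟨PicLoc.isInvertible_structureModule _, PicGrp.cls_structureModule_eq_one⟩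
    | cons i l ih =>
      obtain ⟨hl, e⟩ := ih
      refine ⟨M2.isInvertible_tensor hM hl, ?_⟩
      rw [List.length_cons, pow_succ', ← e]
      exact Hilb13.cls_tensor hM hl
  have hterm : ∀ I : Finset (Fin g),
      FGA.eulerCharLE k A.left (CohB1.tensorMod (FGA.tensorList ((I.sort (· ≤ ·)).map fun _ => M))
        (Coh.structureModule A.left)) g = (I.card : ℤ) ^ g * chi M := fun I => by
    obtain ⟨hl, he⟩ := key (I.sort (· ≤ ·))
    rw [Snapper.eulerCharLE_eq_euler g hg.le
      (CurveCoh17.isCoh_tensor (Snapper.isCoh_of_isInvertible hl) (M1.isCoh_structureModule _)),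
      CurveCoh17.euler_iso (M2.tensorRUnit _), ← chi_natPow hg hM I.card]
    exact chi_congr hl (M2.isInvertible_tensorPow hM _) (by rw [he, Finset.length_sort, Hilb13.cls_pow hM])
  rw [FGA.intNum, Finset.sum_congr rfl fun I _ => by rw [hterm I, ← mul_assoc]]
  rw [← Finset.sum_mul, sum_choose_pow, chi_inverse hg hL hM hc]
  have hsq : (-1 : ℤ) ^ g * (-1) ^ g = 1 := by rw [← mul_pow]; simp
  linear_combination (-(g.factorial : ℤ) * chi L) * hsq

end Groth.Agent.SelfInt13
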